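import Cfsg.Agent.Lib.TernaryGolay.Hexads

/-!
Automorphisms of the ternary code and of its hexad system.
-/

set_option autoImplicit false
set_option maxRecDepth 100000

namespace Cfsg.Agent.Lib.TernaryGolay

open scoped Pointwise
open Cfsg BitMask

def transData : List (List ℕ × List ℕ × ℕ) :=
  [([0, 1, 2, 3, 4, 5, 6, 7, 8, 9, 10, 11], [0, 1, 2, 3, 4, 5, 6, 7, 8, 9, 10, 11], 0),
   ([1, 0, 2, 3, 4, 5, 11, 9, 10, 7, 8, 6], [1, 0, 2, 3, 4, 5, 11, 9, 10, 7, 8, 6], 0),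
   ([2, 0, 1, 3, 4, 5, 8, 6, 7, 10, 11, 9], [1, 2, 0, 3, 4, 5, 7, 8, 6, 11, 9, 10], 0),
   ([3, 0, 1, 2, 4, 5, 10, 7, 6, 8, 9, 11], [1, 2, 3, 0, 4, 5, 8, 7, 9, 10, 6, 11], 1331),
   ([4, 0, 1, 2, 3, 5, 6, 9, 10, 11, 7, 8], [1, 2, 3, 4, 0, 5, 6, 10, 11, 7, 8, 9], 1940),
   ([5, 0, 1, 2, 3, 4, 9, 6, 8, 7, 11, 10], [1, 2, 3, 4, 5, 0, 7, 9, 8, 6, 11, 10], 667),
   ([6, 0, 1, 2, 3, 9, 5, 4, 7, 10, 8, 11], [1, 2, 3, 4, 7, 6, 0, 8, 10, 5, 9, 11], 1581),
   ([7, 0, 1, 2, 3, 11, 10, 8, 9, 4, 5, 6], [1, 2, 3, 4, 9, 10, 11, 0, 7, 8, 6, 5], 993),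
   ([8, 0, 1, 2, 3, 10, 7, 11, 4, 6, 9, 5], [1, 2, 3, 4, 8, 11, 9, 6, 0, 10, 5, 7], 1224),
   ([9, 0, 1, 2, 3, 6, 4, 5, 11, 8, 10, 7], [1, 2, 3, 4, 6, 7, 5, 11, 9, 0, 10, 8], 349),
   ([10, 0, 1, 2, 3, 8, 11, 7, 5, 9, 6, 4], [1, 2, 3, 4, 11, 8, 10, 7, 5, 9, 0, 6], 1271),
   ([11, 0, 1, 2, 3, 7, 8, 10, 6, 5, 4, 9], [1, 2, 3, 4, 10, 9, 8, 5, 6, 11, 7, 0], 430),
   ([0, 1, 2, 3, 4, 5, 6, 7, 8, 9, 10, 11], [0, 1, 2, 3, 4, 5, 6, 7, 8, 9, 10, 11], 0),
   ([0, 2, 1, 3, 4, 5, 9, 10, 11, 6, 7, 8], [0, 2, 1, 3, 4, 5, 9, 10, 11, 6, 7, 8], 0),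
   ([0, 3, 1, 2, 4, 5, 11, 8, 9, 7, 6, 10], [0, 2, 3, 1, 4, 5, 10, 9, 7, 8, 11, 6], 1331),
   ([0, 4, 1, 2, 3, 5, 8, 11, 7, 9, 10, 6], [0, 2, 3, 4, 1, 5, 11, 8, 6, 9, 10, 7], 1940),
   ([0, 5, 1, 2, 3, 4, 10, 7, 11, 6, 8, 9], [0, 2, 3, 4, 5, 1, 9, 7, 10, 11, 6, 8], 667),
   ([0, 6, 1, 2, 3, 9, 11, 10, 8, 4, 7, 5], [0, 2, 3, 4, 9, 11, 1, 10, 8, 5, 7, 6], 1581),
   ([0, 7, 1, 2, 3, 11, 6, 4, 5, 8, 9, 10], [0, 2, 3, 4, 7, 8, 6, 1, 9, 10, 11, 5], 993),
   ([0, 8, 1, 2, 3, 10, 5, 6, 9, 11, 4, 7], [0, 2, 3, 4, 10, 6, 7, 11, 1, 8, 5, 9], 1224),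
   ([0, 9, 1, 2, 3, 6, 7, 8, 10, 5, 11, 4], [0, 2, 3, 4, 11, 9, 5, 6, 7, 1, 8, 10], 349),
   ([0, 10, 1, 2, 3, 8, 4, 9, 6, 7, 5, 11], [0, 2, 3, 4, 6, 10, 8, 9, 5, 7, 1, 11], 1271),
   ([0, 11, 1, 2, 3, 7, 9, 5, 4, 10, 6, 8], [0, 2, 3, 4, 8, 7, 10, 5, 11, 6, 9, 1], 430),
   ([0, 1, 2, 3, 4, 5, 6, 7, 8, 9, 10, 11], [0, 1, 2, 3, 4, 5, 6, 7, 8, 9, 10, 11], 0),
   ([0, 1, 3, 2, 4, 5, 7, 6, 10, 11, 8, 9], [0, 1, 3, 2, 4, 5, 7, 6, 10, 11, 8, 9], 1331),
   ([0, 1, 4, 2, 3, 5, 9, 10, 6, 8, 11, 7], [0, 1, 3, 4, 2, 5, 8, 11, 9, 6, 7, 10], 1940),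
   ([0, 1, 5, 2, 3, 4, 6, 8, 9, 10, 7, 11], [0, 1, 3, 4, 5, 2, 6, 10, 7, 8, 9, 11], 667),
   ([0, 1, 6, 2, 3, 9, 4, 7, 5, 11, 10, 8], [0, 1, 3, 4, 6, 8, 2, 7, 11, 5, 10, 9], 1581),
   ([0, 1, 7, 2, 3, 11, 8, 9, 10, 6, 4, 5], [0, 1, 3, 4, 10, 11, 9, 2, 6, 7, 8, 5], 993),
   ([0, 1, 8, 2, 3, 10, 11, 4, 7, 5, 6, 9], [0, 1, 3, 4, 7, 9, 10, 8, 2, 11, 5, 6], 1224),
   ([0, 1, 9, 2, 3, 6, 5, 11, 4, 7, 8, 10], [0, 1, 3, 4, 8, 6, 5, 9, 10, 2, 11, 7], 349),
   ([0, 1, 10, 2, 3, 8, 7, 5, 11, 4, 9, 6], [0, 1, 3, 4, 9, 7, 11, 6, 5, 10, 2, 8], 1271),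
   ([0, 1, 11, 2, 3, 7, 10, 6, 8, 9, 5, 4], [0, 1, 3, 4, 11, 10, 7, 5, 8, 9, 6, 2], 430),
   ([0, 1, 2, 3, 4, 5, 6, 7, 8, 9, 10, 11], [0, 1, 2, 3, 4, 5, 6, 7, 8, 9, 10, 11], 0),
   ([0, 1, 2, 4, 3, 5, 10, 9, 11, 7, 6, 8], [0, 1, 2, 4, 3, 5, 10, 9, 11, 7, 6, 8], 0),
   ([0, 1, 2, 5, 3, 4, 8, 6, 7, 11, 9, 10], [0, 1, 2, 4, 5, 3, 7, 8, 6, 10, 11, 9], 0),
   ([0, 1, 2, 6, 3, 9, 7, 4, 10, 8, 5, 11], [0, 1, 2, 4, 7, 10, 3, 6, 9, 5, 8, 11], 6),
   ([0, 1, 2, 7, 3, 11, 9, 8, 4, 5, 10, 6], [0, 1, 2, 4, 8, 9, 11, 3, 7, 6, 10, 5], 5),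
   ([0, 1, 2, 8, 3, 10, 4, 11, 6, 9, 7, 5], [0, 1, 2, 4, 6, 11, 8, 10, 3, 9, 5, 7], 3),
   ([0, 1, 2, 9, 3, 6, 11, 5, 8, 10, 4, 7], [0, 1, 2, 4, 10, 7, 5, 11, 8, 3, 9, 6], 6),
   ([0, 1, 2, 10, 3, 8, 5, 7, 9, 6, 11, 4], [0, 1, 2, 4, 11, 6, 9, 7, 5, 8, 3, 10], 3),
   ([0, 1, 2, 11, 3, 7, 6, 10, 5, 4, 8, 9], [0, 1, 2, 4, 9, 8, 6, 5, 10, 11, 7, 3], 5),
   ([0, 1, 2, 3, 4, 5, 6, 7, 8, 9, 10, 11], [0, 1, 2, 3, 4, 5, 6, 7, 8, 9, 10, 11], 0),
   ([0, 1, 2, 3, 5, 4, 9, 11, 10, 6, 8, 7], [0, 1, 2, 3, 5, 4, 9, 11, 10, 6, 8, 7], 0),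
   ([0, 1, 2, 3, 6, 9, 5, 8, 11, 4, 7, 10], [0, 1, 2, 3, 9, 6, 4, 10, 7, 5, 11, 8], 6),
   ([0, 1, 2, 3, 7, 11, 10, 5, 6, 8, 9, 4], [0, 1, 2, 3, 11, 7, 8, 4, 9, 10, 6, 5], 5),
   ([0, 1, 2, 3, 8, 10, 7, 9, 5, 11, 4, 6], [0, 1, 2, 3, 10, 8, 11, 6, 4, 7, 5, 9], 3),
   ([0, 1, 2, 3, 9, 6, 4, 10, 7, 5, 11, 8], [0, 1, 2, 3, 6, 9, 5, 8, 11, 4, 7, 10], 6),
   ([0, 1, 2, 3, 10, 8, 11, 6, 4, 7, 5, 9], [0, 1, 2, 3, 8, 10, 7, 9, 5, 11, 4, 6], 3),
   ([0, 1, 2, 3, 11, 7, 8, 4, 9, 10, 6, 5], [0, 1, 2, 3, 7, 11, 10, 5, 6, 8, 9, 4], 5)]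

/-- The position with a given number. -/
def ptAt (i : ℕ) : ArrayPt := (⟨i / 3 % 4, by omega⟩, (i % 3 : ℕ))

theorem ptAt_check : (∀ p : ArrayPt, ptAt (idxFun p).val = p) ∧
    ∀ i : Fin 12, (idxFun (ptAt i.val)).val = i.val := by decide +kernel

theorem idxFun_ptAt {i : ℕ} (hi : i < 12) : (idxFun (ptAt i)).val = i := ptAt_check.2 ⟨i, hi⟩

/-- The map given by a list of images. -/
def imgFun (l : List ℕ) (p : ArrayPt) : ArrayPt := ptAt (l.getD (idxFun p).val 0)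

/-- The permutation given by a list of images and the list of its inverse. -/
def imgPerm (l l' : List ℕ) : Equiv.Perm ArrayPt :=
  if h : (∀ p, imgFun l' (imgFun l p) = p) ∧ ∀ p, imgFun l (imgFun l' p) = p then
    ⟨imgFun l, imgFun l', h.1, h.2⟩
  else 1

/-- The signs given by a mask. -/
def signOf (m : ℕ) (p : ArrayPt) : (ZMod 3)ˣ := if m.testBit (idxFun p).val then -1 else 1

theorem monomial_sum (σ : Equiv.Perm ArrayPt) (c : ArrayPt → (ZMod 3)ˣ) (a : Fin 6 → ZMod 3) :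
    monomialMap σ c (comb a) = ∑ j, a j • monomialMap σ c (genWord j) := by
  funext p
  simp only [monomialMap, comb, Finset.sum_apply, Pi.smul_apply, smul_eq_mul, Finset.mul_sum]
  exact Finset.sum_congr rfl fun j _ => by ring

/-- A monomial map preserves the code. -/
def Pres (σ : Equiv.Perm ArrayPt) (c : ArrayPt → (ZMod 3)ˣ) : Prop :=
  ∀ x ∈ ternaryGolayCode, monomialMap σ c x ∈ ternaryGolayCode

theorem pres_of_basis {σ : Equiv.Perm ArrayPt} {c : ArrayPt → (ZMod 3)ˣ}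
    (h : ∀ j, comb (fun i => monomialMap σ c (genWord j) (pivot i)) = monomialMap σ c (genWord j)) :
    Pres σ c := by
  intro x hx
  rw [← (mem_iff x).1 hx, monomial_sum]
  exact Submodule.sum_mem _ fun j _ => Submodule.smul_mem _ _ ((mem_iff _).2 (h j))

/-- The permutation parts of the monomial automorphisms. -/
def induced : Set (Equiv.Perm ArrayPt) := {σ | ∃ c, Pres σ c}

theorem pres_mul {σ τ : Equiv.Perm ArrayPt} {c d : ArrayPt → (ZMod 3)ˣ} (hσ : Pres σ c)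
    (hτ : Pres τ d) : Pres (σ * τ) (fun i => c i * d (σ.symm i)) := by
  intro x hx
  have h : monomialMap (σ * τ) (fun i => c i * d (σ.symm i)) x
      = monomialMap σ c (monomialMap τ d x) := by
    funext i
    simp [monomialMap, Equiv.Perm.mul_def, mul_assoc]
  rw [h]
  exact hσ _ (hτ x hx)

theorem one_mem_induced : (1 : Equiv.Perm ArrayPt) ∈ induced :=
  ⟨fun _ => 1, fun x hx => by
    have h : monomialMap (1 : Equiv.Perm ArrayPt) (fun _ => (1 : (ZMod 3)ˣ)) x = x := by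
      funext i
      simp [monomialMap, Equiv.Perm.one_def]
    rwa [h]⟩

theorem mul_mem_induced {σ τ : Equiv.Perm ArrayPt} (hσ : σ ∈ induced) (hτ : τ ∈ induced) :
    σ * τ ∈ induced :=
  let ⟨_, hc⟩ := hσ
  let ⟨_, hd⟩ := hτ
  ⟨_, pres_mul hc hd⟩

theorem trans_check : transData.all (fun d => decide (∀ j,
      comb (fun i => monomialMap (imgPerm d.1 d.2.1) (signOf d.2.2) (genWord j) (pivot i))
        = monomialMap (imgPerm d.1 d.2.1) (signOf d.2.2) (genWord j))) = true ∧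
    ∀ k : Fin 5, ∀ j : Fin 12, k.val ≤ j.val → transData.any (fun d =>
      decide (∀ i : Fin 5, i.val < k.val → imgPerm d.1 d.2.1 (ptAt i.val) = ptAt i.val)
        && decide (imgPerm d.1 d.2.1 (ptAt k.val) = ptAt j.val)) = true := by decide +kernel

theorem exists_induced (t : Fin 5 → ArrayPt) (ht : Function.Injective t) :
    ∀ k, k ≤ 5 → ∃ σ ∈ induced, ∀ i : Fin 5, i.val < k → σ (ptAt i.val) = t i := by
  intro k
  induction k with
  | zero => exact fun _ => ⟨1, one_mem_induced, fun i hi => absurd hi (Nat.not_lt_zero _)⟩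
  | succ k ih =>
    intro hk
    obtain ⟨σ, hσ, hfix⟩ := ih (by omega)
    obtain ⟨u, hu⟩ : ∃ u, σ.symm (t ⟨k, hk⟩) = u := ⟨_, rfl⟩
    have hge : k ≤ (idxFun u).val := by
      by_contra hlt
      have h := hfix ⟨(idxFun u).val, by omega⟩ (not_le.1 hlt)
      have hσu : σ u = t ⟨k, hk⟩ := by rw [← hu, Equiv.apply_symm_apply]
      rw [ptAt_check.1, hσu] at h
      have := congrArg Fin.val (ht h)
      simp only at this
      omega
    obtain ⟨d, hd, hd'⟩ := List.any_eq_true.1 (trans_check.2 ⟨k, hk⟩ (idxFun u) hge)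
    rw [Bool.and_eq_true, decide_eq_true_eq, decide_eq_true_eq] at hd'
    have hτ : imgPerm d.1 d.2.1 ∈ induced :=
      ⟨_, pres_of_basis (of_decide_eq_true (List.all_eq_true.1 trans_check.1 d hd))⟩
    refine ⟨σ * imgPerm d.1 d.2.1, mul_mem_induced hσ hτ, fun i hi => ?_⟩
    rw [Equiv.Perm.mul_apply]
    rcases Nat.lt_succ_iff_lt_or_eq.1 hi with hlt | heq
    · rw [hd'.1 i hlt, hfix i hlt]
    · have hie : i = ⟨k, hk⟩ := Fin.ext heq
      rw [hie, hd'.2, ptAt_check.1, ← hu, Equiv.apply_symm_apply]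

theorem support_monomial (σ : Equiv.Perm ArrayPt) (c : ArrayPt → (ZMod 3)ˣ) (x : ArrayPt → ZMod 3) :
    ternarySupport (monomialMap σ c x) = (ternarySupport x).image σ := by
  ext p
  rw [Finset.mem_image]
  simp only [ternarySupport, Finset.mem_filter, Finset.mem_univ, true_and]
  show (c p : ZMod 3) * x (σ.symm p) ≠ 0 ↔ _
  constructor
  · exact fun h => ⟨σ.symm p, fun h0 => h (by rw [h0, mul_zero]), σ.apply_symm_apply p⟩
  · rintro ⟨q, hq, rfl⟩
    rw [σ.symm_apply_apply]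
    exact mul_ne_zero (Units.ne_zero _) hq

/-- Preservation of the hexad family, one direction. -/
def HexPres (σ : Equiv.Perm ArrayPt) : Prop := ∀ h ∈ hexads, h.image σ ∈ hexads

theorem hexPres_of_induced {σ : Equiv.Perm ArrayPt} (hσ : σ ∈ induced) : HexPres σ := by
  obtain ⟨c, hc⟩ := hσ
  rintro _ ⟨x, hx, rfl, hcard⟩
  exact ⟨_, hc x hx, support_monomial σ c x, by rwa [Finset.card_image_of_injective _ σ.injective]⟩

theorem hexPres_of_mem_aut {σ : Equiv.Perm ArrayPt} (h : σ ∈ setSystemAut hexads) : HexPres σ := by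
  intro b hb
  have h1 : σ • b ∈ σ • hexads := Set.smul_mem_smul_set hb
  rw [MulAction.mem_stabilizer_iff.1 h] at h1
  rwa [Finset.smul_finset_def] at h1

theorem mem_aut_of_hexPres {σ : Equiv.Perm ArrayPt} (h : HexPres σ) : σ ∈ setSystemAut hexads := by
  rw [MulAction.mem_stabilizer_iff]
  refine Set.eq_of_subset_of_ncard_le ?_ ?_ (Set.toFinite _)
  · rintro _ ⟨b, hb, rfl⟩
    have := h b hb
    show σ • b ∈ hexads
    rw [Finset.smul_finset_def]
    exact this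
  · rw [← Set.image_smul, Set.InjOn.ncard_image (MulAction.injective σ).injOn]

theorem hexad_base_check : hexMasks.contains 63 = true ∧
    ([6, 7, 8, 9, 10, 11] : List ℕ).permutations'.all (fun q =>
      q == [6, 7, 8, 9, 10, 11] ||
        hexMasks.any (fun h => !hexMasks.contains (imgMask 12 ([0, 1, 2, 3, 4, 5] ++ q) h))) = true := by
  decide +kernel

theorem eq_one_of_fix_base {σ : Equiv.Perm ArrayPt} (hσ : HexPres σ)
    (hfix : ∀ i : Fin 5, σ (ptAt i.val) = ptAt i.val) : σ = 1 := by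
  set f : ℕ → ℕ := fun i => (idxFun (σ (ptAt i))).val with hf
  have hflt : ∀ i, f i < 12 := fun i => (idxFun (σ (ptAt i))).isLt
  have hfinj : ∀ i j, i < 12 → j < 12 → f i = f j → i = j := by
    intro i j hi hj h
    have := congrArg ptAt h
    simp only [hf, ptAt_check.1] at this
    rw [← idxFun_ptAt hi, ← idxFun_ptAt hj, σ.injective this]
  have h5 : ∀ i, i < 5 → f i = i := fun i hi => by
    simp only [hf, hfix ⟨i, hi⟩]
    exact idxFun_ptAt (by omega)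
  set L : List ℕ := [f 0, f 1, f 2, f 3, f 4, f 5, f 6, f 7, f 8, f 9, f 10, f 11] with hL
  have hLget : ∀ i : Fin 12, L.getD i.val 0 = f i.val := by
    intro i
    fin_cases i <;> rfl
  have himg : ∀ m, (maskSet idx m).image σ = maskSet idx (imgMask 12 L m) := by
    refine fun m => image_maskSet idx σ L (fun p => ?_) m
    rw [idx_apply, idx_apply, hLget, hf]
    simp only [ptAt_check.1]
  have hmem : ∀ h ∈ hexMasks, imgMask 12 L h ∈ hexMasks := by
    intro h hh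
    have := hσ (maskSet idx h) (by rw [hexads_eq]; exact ⟨h, hh, rfl⟩)
    rw [himg, hexads_eq] at this
    obtain ⟨m, hm, hme⟩ := this
    have := maskSet_injOn idx (hexMasks_lt hm)
      (imgMask_lt 12 L h fun i hi => by rw [hLget ⟨i, hi⟩]; exact hflt i) hme
    rwa [← this]
  -- the sixth point of the hexad through the base is fixed
  have h63 : maskSet idx 63 ∈ hexads := by
    rw [hexads_eq]
    exact ⟨63, List.contains_iff_mem.1 hexad_base_check.1, rfl⟩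
  have hbit : ∀ i, i < 12 → (ptAt i ∈ maskSet idx 63 ↔ i < 6) := by
    intro i hi
    rw [mem_maskSet, idx_apply, idxFun_ptAt hi]
    interval_cases i <;> decide
  set B : Finset ArrayPt := (Finset.univ : Finset (Fin 5)).image (fun i => ptAt i.val) with hB
  have hBcard : B.card = 5 := by
    rw [hB, Finset.card_image_of_injective]
    · rfl
    · intro a b h
      have := congrArg (fun p => (idxFun p).val) h
      simp only [idxFun_ptAt (show a.val < 12 by omega), idxFun_ptAt (show b.val < 12 by omega)] at this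
      exact Fin.ext this
  have hB63 : B ⊆ maskSet idx 63 := by
    intro p hp
    obtain ⟨i, _, rfl⟩ := Finset.mem_image.1 hp
    exact (hbit i.val (by omega)).2 (by omega)
  have hBimg : B ⊆ (maskSet idx 63).image σ := by
    intro p hp
    obtain ⟨i, _, rfl⟩ := Finset.mem_image.1 hp
    exact Finset.mem_image.2 ⟨_, (hbit i.val (by omega)).2 (by omega), hfix i⟩
  have hH : (maskSet idx 63).image σ = maskSet idx 63 :=
    (hexads_steiner.2 B hBcard).unique ⟨hσ _ h63, hBimg⟩ ⟨h63, hB63⟩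
  have h6 : f 5 = 5 := by
    have hin : σ (ptAt 5) ∈ maskSet idx 63 := by
      rw [← hH]
      exact Finset.mem_image_of_mem _ ((hbit 5 (by omega)).2 (by omega))
    rw [← ptAt_check.1 (σ (ptAt 5))] at hin
    have hlt := (hbit (f 5) (hflt 5)).1 hin
    rcases Nat.lt_succ_iff_lt_or_eq.1 hlt with h | h
    · have := hfinj (f 5) 5 (hflt 5) (by omega) (h5 (f 5) h)
      omega
    · exact h
  have hge : ∀ i, 6 ≤ i → i < 12 → 6 ≤ f i := by
    intro i h1 h2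
    by_contra h
    rcases Nat.lt_succ_iff_lt_or_eq.1 (not_le.1 h) with h' | h'
    · have := hfinj (f i) i (hflt i) h2 (h5 (f i) h')
      omega
    · have := hfinj 5 i (by omega) h2 (h6.trans h'.symm)
      omega
  set q : List ℕ := [f 6, f 7, f 8, f 9, f 10, f 11] with hq
  have hperm : q.Perm [6, 7, 8, 9, 10, 11] := by
    have hqe : q = ([6, 7, 8, 9, 10, 11] : List ℕ).map f := rfl
    have hnd : q.Nodup := by
      rw [hqe]
      refine List.Nodup.map_on (fun a ha b hb h => hfinj a b ?_ ?_ h) (by decide)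
      · simp only [List.mem_cons, List.not_mem_nil, or_false] at ha; omega
      · simp only [List.mem_cons, List.not_mem_nil, or_false] at hb; omega
    refine (List.Subperm.perm_of_length_le (hnd.subperm ?_) (by rw [hqe]; simp))
    intro a ha
    rw [hqe, List.mem_map] at ha
    obtain ⟨i, hi, rfl⟩ := ha
    simp only [List.mem_cons, List.not_mem_nil, or_false] at hi
    have := hge i (by omega) (by omega)
    have := hflt i
    simp only [List.mem_cons, List.not_mem_nil, or_false]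
    omega
  have hLq : L = [0, 1, 2, 3, 4, 5] ++ q := by
    rw [hL, hq, h5 0, h5 1, h5 2, h5 3, h5 4, h6] <;> first | rfl | omega
  have hid : q = [6, 7, 8, 9, 10, 11] := by
    have := List.all_eq_true.1 hexad_base_check.2 q (List.mem_permutations'.2 hperm)
    rw [Bool.or_eq_true, beq_iff_eq] at this
    refine this.resolve_right fun hany => ?_
    obtain ⟨h, hh, hno⟩ := List.any_eq_true.1 hany
    rw [← hLq, Bool.not_eq_true'] at hno
    have := List.contains_iff_mem.2 (hmem h hh)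
    rw [hno] at this
    exact Bool.false_ne_true this
  refine Equiv.ext fun p => ?_
  rw [← ptAt_check.1 p, Equiv.Perm.one_apply]
  have key : f (idxFun p).val = (idxFun p).val := by
    have := hLget (idxFun p)
    rw [hLq, hid] at this
    rw [← this]
    generalize idxFun p = i
    fin_cases i <;> rfl
  have h := congrArg ptAt key
  simpa only [hf, ptAt_check.1] using h

/-- Restriction to the base is a bijection from the automorphisms onto the injective 5-tuples. -/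
theorem aut_eq_induced : (setSystemAut hexads : Set (Equiv.Perm ArrayPt)) = induced := by
  refine Set.Subset.antisymm (fun σ hσ => ?_) fun σ hσ => mem_aut_of_hexPres (hexPres_of_induced hσ)
  obtain ⟨τ, hτ, hag⟩ := exists_induced (fun i => σ (ptAt i.val))
    (fun a b h => Fin.ext (by
      have := congrArg (fun p => (idxFun p).val) (σ.injective h)
      simpa [idxFun_ptAt (show a.val < 12 by omega), idxFun_ptAt (show b.val < 12 by omega)] using this))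
    5 le_rfl
  have h1 : τ⁻¹ * σ = 1 := by
    refine eq_one_of_fix_base (hexPres_of_mem_aut ?_) fun i => ?_
    · exact Subgroup.mul_mem _ (Subgroup.inv_mem _ (mem_aut_of_hexPres (hexPres_of_induced hτ))) hσ
    · rw [Equiv.Perm.mul_apply, ← hag i i.isLt, Equiv.Perm.coe_inv, Equiv.symm_apply_apply]
  rwa [← inv_mul_eq_one.1 h1]

theorem ptAt_base_injective : Function.Injective fun i : Fin 5 => ptAt i.val := fun a b h => by
  have := congrArg (fun p => (idxFun p).val) h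
  exact Fin.ext (by simpa [idxFun_ptAt (show a.val < 12 by omega), idxFun_ptAt (show b.val < 12 by omega)] using this)

theorem card_induced : Nat.card induced = 95040 := by
  let f : induced → (Fin 5 ↪ ArrayPt) := fun σ =>
    ⟨fun i => σ.1 (ptAt i.val), σ.1.injective.comp ptAt_base_injective⟩
  have hbij : Function.Bijective f := by
    refine ⟨fun σ τ h => Subtype.ext ?_, fun t => ?_⟩
    · have hm : ∀ ρ ∈ induced, ρ ∈ setSystemAut hexads := fun ρ hρ =>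
        mem_aut_of_hexPres (hexPres_of_induced hρ)
      have h1 : τ.1⁻¹ * σ.1 = 1 := by
        refine eq_one_of_fix_base (hexPres_of_mem_aut ?_) fun i => ?_
        · exact Subgroup.mul_mem _ (Subgroup.inv_mem _ (hm _ τ.2)) (hm _ σ.2)
        · have hi : σ.1 (ptAt i.val) = τ.1 (ptAt i.val) := DFunLike.congr_fun h i
          rw [Equiv.Perm.mul_apply, hi, Equiv.Perm.coe_inv, Equiv.symm_apply_apply]
      exact (inv_mul_eq_one.1 h1).symm
    · obtain ⟨σ, hσ, hag⟩ := exists_induced t t.injective 5 le_rfl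
      exact ⟨⟨σ, hσ⟩, Function.Embedding.ext fun i => hag i i.isLt⟩
  rw [Nat.card_eq_of_bijective f hbij, Nat.card_eq_fintype_card, Fintype.card_embedding_eq,
    Fintype.card_fin, Fintype.card_prod, Fintype.card_fin, ZMod.card]
  rfl

theorem pres_unique {σ : Equiv.Perm ArrayPt} {c c' : ArrayPt → (ZMod 3)ˣ} (hc : Pres σ c)
    (hc' : Pres σ c') : c' = c ∨ c' = fun p => -c p := by
  have hsurj : ∀ x ∈ ternaryGolayCode, ∃ y ∈ ternaryGolayCode, monomialMap σ c y = x := by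
    let F : ternaryGolayCode → ternaryGolayCode := fun y => ⟨_, hc y.1 y.2⟩
    have hF : Function.Injective F := by
      intro y z h
      refine Subtype.ext (funext fun p => ?_)
      have h' := congrFun (congrArg Subtype.val h) (σ p)
      simp only [F, monomialMap, Equiv.symm_apply_apply] at h'
      exact mul_left_cancel₀ (Units.ne_zero _) h'
    intro x hx
    obtain ⟨y, hy⟩ := (Finite.injective_iff_surjective.1 hF) ⟨x, hx⟩
    exact ⟨y.1, y.2, congrArg Subtype.val hy⟩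
  have hd : ∀ x ∈ ternaryGolayCode, monomialMap 1 (fun i => c' i * (c i)⁻¹) x ∈ ternaryGolayCode := by
    intro x hx
    obtain ⟨y, hy, rfl⟩ := hsurj x hx
    have h : monomialMap (1 : Equiv.Perm ArrayPt) (fun i => c' i * (c i)⁻¹) (monomialMap σ c y)
        = monomialMap σ c' y := by
      funext i
      simp only [monomialMap, Equiv.Perm.one_symm, Equiv.Perm.one_apply, Units.val_mul]
      rw [mul_assoc, ← mul_assoc ((c i)⁻¹ : (ZMod 3)ˣ).val, Units.inv_mul, one_mul]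
    rw [h]
    exact hc' y hy
  rcases diag_scalar hd with h | h
  · exact Or.inl (funext fun p => mul_inv_eq_one.1 (h p))
  · exact Or.inr (funext fun p => by rw [← neg_one_mul (c p), ← h p, inv_mul_cancel_right])

theorem pres_neg {σ : Equiv.Perm ArrayPt} {c : ArrayPt → (ZMod 3)ˣ} (hc : Pres σ c) :
    Pres σ fun p => -c p := by
  intro x hx
  have h : monomialMap σ (fun p => -c p) x = -monomialMap σ c x := by
    funext i
    simp [monomialMap]
  rw [h]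
  exact Submodule.neg_mem _ (hc x hx)

theorem card_monomial_aut :
    Nat.card {f : Equiv.Perm ArrayPt × (ArrayPt → (ZMod 3)ˣ) // Pres f.1 f.2} = 190080 := by
  choose c hc using fun σ : induced => σ.2
  let g : induced × Bool → {f : Equiv.Perm ArrayPt × (ArrayPt → (ZMod 3)ˣ) // Pres f.1 f.2} :=
    fun x => bif x.2 then ⟨(x.1.1, fun p => -c x.1 p), pres_neg (hc x.1)⟩
      else ⟨(x.1.1, c x.1), hc x.1⟩
  have hne : ∀ u : (ZMod 3)ˣ, -u ≠ u := by decide +kernel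
  have hbij : Function.Bijective g := by
    refine ⟨?_, ?_⟩
    · rintro ⟨σ, b⟩ ⟨τ, b'⟩ h
      have h1 : σ = τ := Subtype.ext (by
        have := congrArg (fun f => f.1.1) h
        cases b <;> cases b' <;> simpa [g] using this)
      subst h1
      have h2 := congrArg (fun f => f.1.2 (0, 0)) h
      cases b <;> cases b'
      · rfl
      · exact absurd h2.symm (hne _)
      · exact absurd h2 (hne _)
      · rfl
    · rintro ⟨⟨σ, d⟩, hd⟩
      rcases pres_unique (hc ⟨σ, d, hd⟩) hd with h | h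
      · exact ⟨(⟨σ, d, hd⟩, false), Subtype.ext (Prod.ext rfl h.symm)⟩
      · exact ⟨(⟨σ, d, hd⟩, true), Subtype.ext (Prod.ext rfl h.symm)⟩
  rw [← Nat.card_eq_of_bijective g hbij, Nat.card_prod, card_induced, Nat.card_eq_fintype_card,
    Fintype.card_bool]

end Cfsg.Agent.Lib.TernaryGolay
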