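import Mathlib

/-!
Subsets of a small finite type as bit masks, and permutations given by their lists of images.
-/

set_option autoImplicit false

namespace Cfsg.Agent.Lib.BitMask

variable {α : Type*} [Fintype α] [DecidableEq α] {n : ℕ}

/-- The subset with a given bit mask. -/
def maskSet (e : α ≃ Fin n) (m : ℕ) : Finset α :=
  Finset.univ.filter fun a => m.testBit (e a).val = true

/-- The number of set bits below `n`. -/
def bitCount (n m : ℕ) : ℕ := (List.range n).countP m.testBit

theorem mem_maskSet (e : α ≃ Fin n) (m : ℕ) (a : α) :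
    a ∈ maskSet e m ↔ m.testBit (e a).val = true := by simp [maskSet]

theorem maskSet_injOn (e : α ≃ Fin n) {m m' : ℕ} (hm : m < 2 ^ n) (hm' : m' < 2 ^ n)
    (h : maskSet e m = maskSet e m') : m = m' := by
  refine Nat.eq_of_testBit_eq fun i => ?_
  by_cases hi : i < n
  · have := Finset.ext_iff.1 h (e.symm ⟨i, hi⟩)
    simp only [mem_maskSet, Equiv.apply_symm_apply] at this
    exact Bool.eq_iff_iff.2 this
  · rw [Nat.testBit_lt_two_pow (hm.trans_le (Nat.pow_le_pow_right (by norm_num) (not_lt.1 hi))),
      Nat.testBit_lt_two_pow (hm'.trans_le (Nat.pow_le_pow_right (by norm_num) (not_lt.1 hi)))]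

theorem exists_mask (e : α ≃ Fin n) (s : Finset α) : ∃ m, m < 2 ^ n ∧ maskSet e m = s := by
  have hbij : Function.Bijective fun m : Fin (2 ^ n) => maskSet e m.val := by
    refine (Fintype.bijective_iff_injective_and_card _).2 ⟨fun a b h =>
      Fin.ext (maskSet_injOn e a.2 b.2 h), ?_⟩
    rw [Fintype.card_fin, Fintype.card_finset, Fintype.card_congr e, Fintype.card_fin]
  obtain ⟨m, hm⟩ := hbij.2 s
  exact ⟨m.val, m.2, hm⟩

theorem card_maskSet (e : α ≃ Fin n) (m : ℕ) : (maskSet e m).card = bitCount n m := by
  have h : (maskSet e m).map e.toEmbedding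
      = Finset.univ.filter fun i : Fin n => m.testBit i.val = true := by
    ext i
    simp [mem_maskSet]
  rw [← Finset.card_map e.toEmbedding, h, bitCount, List.countP_eq_length_filter]
  rw [Finset.card_filter, Fin.sum_univ_eq_sum_range (fun i => if m.testBit i = true then 1 else 0),
    ← Finset.card_filter]
  simp [Finset.card, Finset.filter, Multiset.range]

theorem maskSet_subset (e : α ≃ Fin n) {m m' : ℕ} (hm : m < 2 ^ n) :
    maskSet e m ⊆ maskSet e m' ↔ m &&& m' = m := by
  constructor
  · intro h
    refine Nat.eq_of_testBit_eq fun i => ?_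
    rw [Nat.testBit_land]
    cases hb : m.testBit i with
    | false => rfl
    | true =>
      have hi : i < n := by
        by_contra hi
        rw [Nat.testBit_lt_two_pow (hm.trans_le (Nat.pow_le_pow_right (by norm_num) (not_lt.1 hi)))]
          at hb
        exact Bool.false_ne_true hb
      have := h ((mem_maskSet e m (e.symm ⟨i, hi⟩)).2 (by simpa using hb))
      rw [mem_maskSet, Equiv.apply_symm_apply] at this
      simp [this]
  · intro h a ha
    rw [mem_maskSet] at ha ⊢
    rw [← h, Nat.testBit_land, Bool.and_eq_true] at ha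
    exact ha.2

/-- The image of a mask under the map `i ↦ img.getD i 0` on bit positions below `n`. -/
def imgMask (n : ℕ) (img : List ℕ) (m : ℕ) : ℕ :=
  (List.range n).foldr (fun i acc => if m.testBit i then acc ||| (1 <<< img.getD i 0) else acc) 0

theorem testBit_imgMask (n : ℕ) (img : List ℕ) (m j : ℕ) :
    (imgMask n img m).testBit j = true ↔ ∃ i < n, m.testBit i = true ∧ img.getD i 0 = j := by
  unfold imgMask
  have h : ∀ l : List ℕ, (l.foldr (fun i acc => if m.testBit i then acc ||| (1 <<< img.getD i 0)
      else acc) 0).testBit j = true ↔ ∃ i ∈ l, m.testBit i = true ∧ img.getD i 0 = j := by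
    intro l
    induction l with
    | nil => simp
    | cons a l ih =>
      rw [List.foldr_cons]
      by_cases ha : m.testBit a = true
      · rw [if_pos ha, Nat.testBit_lor, Bool.or_eq_true, ih, Nat.one_shiftLeft,
          Nat.testBit_two_pow]
        simp only [decide_eq_true_eq, List.mem_cons, or_and_right, exists_or, exists_eq_left, ha,
          true_and]
        exact or_comm
      · rw [if_neg ha, ih]
        simp only [List.mem_cons, or_and_right, exists_or, exists_eq_left, ha,
          false_and, false_or, Bool.false_eq_true]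
  rw [h]
  simp

theorem image_maskSet (e : α ≃ Fin n) (g : α → α) (img : List ℕ)
    (hg : ∀ a, (e (g a)).val = img.getD (e a).val 0) (m : ℕ) :
    (maskSet e m).image g = maskSet e (imgMask n img m) := by
  ext b
  rw [Finset.mem_image, mem_maskSet, testBit_imgMask]
  constructor
  · rintro ⟨a, ha, rfl⟩
    exact ⟨_, (e a).2, (mem_maskSet e m a).1 ha, (hg a).symm⟩
  · rintro ⟨i, hi, hm, hij⟩
    refine ⟨e.symm ⟨i, hi⟩, (mem_maskSet e m _).2 (by simpa using hm), e.injective (Fin.ext ?_)⟩
    rw [hg, Equiv.apply_symm_apply]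
    exact hij

theorem imgMask_lt (n : ℕ) (img : List ℕ) (m : ℕ) (h : ∀ i < n, img.getD i 0 < n) :
    imgMask n img m < 2 ^ n := by
  refine Nat.lt_pow_two_of_testBit _ fun j hj => ?_
  rw [Bool.eq_false_iff]
  intro hb
  obtain ⟨i, hi, _, rfl⟩ := (testBit_imgMask n img m j).1 hb
  exact absurd (h i hi) (not_lt.2 hj)

end Cfsg.Agent.Lib.BitMask
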