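import Cfsg.Prelude.Def_SporadicCombinatorics
import Cfsg.Agent.Lib.TernaryGolay.Mask

/-!
The ternary code of length 12: an explicit basis, and its weight 6 supports.
-/

set_option autoImplicit false
set_option maxRecDepth 100000

namespace Cfsg.Agent.Lib.TernaryGolay

open Cfsg BitMask

/-- The positions numbered by `3 * column + row`. -/
def idxFun (p : ArrayPt) : Fin 12 := ⟨3 * p.1.val + p.2.val, by
  have := p.1.isLt
  have := ZMod.val_lt p.2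
  show 3 * p.1.val + p.2.val < 12
  have h : p.2.val < 3 := this
  omega⟩

/-- The numbering of the positions as an equivalence. -/
noncomputable def idx : ArrayPt ≃ Fin 12 := Equiv.ofBijective idxFun (by decide +kernel)

theorem idx_apply (p : ArrayPt) : idx p = idxFun p := rfl

/-- Six pivot positions. -/
def pivot : Fin 6 → ArrayPt := ![(0, 0), (0, 1), (0, 2), (1, 0), (1, 1), (2, 0)]

def genRows : List (List (ZMod 3)) :=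
  [[1, 0, 0, 0, 0, 1, 0, 0, 1, 1, 1, 2],
   [0, 1, 0, 0, 0, 1, 0, 2, 2, 2, 0, 2],
   [0, 0, 1, 0, 0, 1, 0, 1, 0, 2, 1, 1],
   [0, 0, 0, 1, 0, 2, 0, 2, 1, 2, 1, 0],
   [0, 0, 0, 0, 1, 2, 0, 1, 2, 0, 1, 2],
   [0, 0, 0, 0, 0, 0, 1, 1, 1, 2, 2, 2]]
def hexMasks : List ℕ :=
  [63, 222, 237, 243, 347, 366, 373, 413, 427, 438, 455, 504, 591, 630, 633, 667, 679, 700, 725, 746, 791, 813, 826, 860, 867, 910, 945, 969, 978, 996, 1117, 1127, 1146, 1175, 1198, 1209, 1227, 1268, 1295, 1331, 1340, 1366, 1385, 1434, 1445, 1484, 1489, 1506, 1566, 1579, 1589, 1619, 1644, 1677, 1714, 1734, 1752, 1761, 1817, 1830, 1861, 1866, 1904, 1923, 1940, 1960, 2135, 2155, 2172, 2191, 2229, 2234, 2265, 2278, 2334, 2343, 2361, 2381, 2418, 2451, 2476, 2506, 2516, 2529, 2589, 2606, 2611, 2650, 2661, 2710, 2729, 2755, 2764, 2800, 2827, 2868, 2886, 2897, 2920, 2949, 2968, 2978, 3099,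 3117, 3126, 3150, 3185, 3228, 3235, 3269, 3282, 3304, 3349, 3370, 3395, 3416, 3428, 3462, 3465, 3504, 3591, 3640, 3657, 3668, 3682, 3722, 3729, 3748, 3852, 3858, 3873, 4032]
def hexCoeffs : List (List (ZMod 3)) :=
  [[1, 1, 1, 2, 2, 0], [0, 1, 2, 1, 2, 2], [1, 0, 2, 1, 0, 1], [1, 2, 0, 0, 1, 2], [1, 2, 0, 1, 2, 1], [0, 1, 2, 2, 0, 1], [1, 0, 2, 0, 2, 2], [1, 0, 2, 2, 1, 0], [1, 2, 0, 2, 0, 0], [0, 1, 2, 0, 1, 0], [1, 1, 1, 0, 0, 2], [0, 0, 0, 1, 1, 2], [1, 2, 2, 2, 0, 2], [0, 1, 1, 0, 1, 2], [1, 0, 0, 2, 1, 1], [1, 1, 0, 1, 1, 0], [1, 1, 2, 0, 0, 0], [0, 0, 1, 1, 1, 0], [1, 0, 1, 0, 2, 1], [0, 1, 0, 2, 0, 2], [1, 2, 1, 0, 1, 0], [1, 0, 1, 1, 0, 0], [0, 1, 0, 1, 2, 0], [0, 0, 1, 2, 2, 2], [1, 1, 0, 0, 0, 1], [0, 1, 1, 2, 0, 0], [1, 0, 0, 0, 2, 0], [1, 0, 0, 1, 0, 2], [0, 1, 0, 0, 1, 1], [0, 0, 1, 0, 0, 1], [1, 0, 1, 1, 1, 2], [1, 2, 1, 0, 0, 1], [0,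 1, 0, 1, 1, 1], [1, 2, 2, 0, 2, 0], [0, 1, 1, 1, 0, 0], [1, 0, 0, 1, 2, 0], [1, 1, 0, 2, 0, 1], [0, 0, 1, 0, 2, 2], [1, 1, 2, 1, 0, 0], [1, 1, 0, 0, 1, 0], [0, 0, 1, 2, 1, 0], [0, 1, 1, 0, 2, 1], [1, 0, 0, 2, 0, 2], [0, 1, 0, 2, 2, 0], [1, 0, 1, 0, 0, 0], [0, 0, 1, 1, 0, 1], [1, 0, 0, 0, 1, 1], [0, 1, 0, 0, 0, 2], [0, 1, 2, 2, 1, 0], [1, 2, 0, 1, 0, 0], [1, 0, 2, 0, 1, 0], [1, 1, 0, 0, 2, 2], [0, 0, 1, 2, 0, 1], [1, 0, 1, 2, 0, 0], [0, 1, 0, 0, 2, 0], [0, 1, 2, 0, 0, 1], [0, 0, 0, 1, 2, 1], [1, 0, 0, 0, 0, 2], [1, 0, 0, 2, 2, 0], [0, 1, 1, 0, 0, 0], [1, 0, 2, 0, 0, 1], [0, 1, 0, 1, 0, 2], [0, 0, 0, 0, 1, 2], [1, 2, 0, 0, 0, 0], [0, 0, 1, 0, 1, 0], [0, 0, 0, 1, 0, 0], [1, 1, 2, 0, 1, 1], [1, 1, 0, 1, 0, 2], [0, 0, 1, 1, 2, 1], [1, 2, 1, 1, 0, 0], [1, 0, 1, 0, 1, 0], [0, 1, 0, 2, 1, 0], [1, 0, 0, 2, 2, 2], [0, 1, 1, 0, 0, 1], [0, 1, 1, 1, 1, 0], [1,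 2, 2, 0, 0, 0], [1, 0, 0, 1, 1, 0], [1, 0, 1, 2, 0, 1], [0, 1, 0, 0, 2, 2], [1, 1, 0, 0, 2, 0], [0, 0, 1, 2, 0, 0], [0, 1, 0, 1, 0, 1], [0, 0, 1, 0, 1, 2], [1, 0, 0, 0, 0, 1], [1, 0, 2, 1, 2, 0], [0, 1, 2, 1, 0, 0], [1, 2, 0, 0, 2, 0], [0, 1, 0, 2, 2, 1], [1, 0, 1, 0, 0, 2], [0, 1, 1, 0, 2, 0], [1, 0, 0, 2, 0, 0], [1, 2, 0, 0, 0, 1], [0, 0, 1, 1, 0, 2], [0, 0, 0, 0, 1, 1], [1, 1, 0, 2, 0, 0], [0, 0, 1, 0, 2, 0], [0, 1, 2, 0, 0, 2], [1, 0, 0, 0, 1, 2], [0, 0, 0, 1, 0, 1], [1, 0, 2, 0, 0, 0], [0, 0, 0, 1, 2, 0], [0, 1, 0, 0, 0, 0], [1, 2, 0, 2, 1, 0], [1, 0, 2, 2, 0, 0], [0, 1, 2, 0, 2, 0], [0, 1, 1, 2, 0, 2], [1, 0, 0, 0, 2, 1], [0, 0, 1, 2, 2, 0], [1, 1, 0, 0, 0, 0], [1, 0, 2, 0, 0, 2], [0, 1, 0, 0, 1, 2], [0, 0, 0, 1, 0, 2], [1, 0, 1, 0, 2, 0], [0, 1, 0, 2, 0, 0], [1, 2, 0, 0, 0, 2], [0, 0, 0, 1, 2, 2], [0, 0, 1, 0, 0, 2], [0, 1, 2, 0, 0, 0], [1,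 0, 0, 1, 0, 0], [0, 0, 0, 0, 1, 0], [1, 1, 1, 0, 0, 0], [0, 0, 0, 1, 1, 0], [1, 0, 0, 1, 0, 1], [0, 0, 1, 0, 1, 1], [0, 1, 0, 0, 0, 1], [0, 1, 0, 1, 0, 0], [1, 0, 0, 0, 1, 0], [0, 0, 1, 0, 0, 0], [0, 0, 1, 1, 0, 0], [0, 1, 0, 0, 1, 0], [1, 0, 0, 0, 0, 0], [0, 0, 0, 0, 0, 1]]

/-- The basis words. -/
def genWord (j : Fin 6) : ArrayPt → ZMod 3 := fun p =>
  (genRows.getD j.val []).getD (idxFun p).val 0

/-- The word with given coordinates in the basis. -/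
def comb (a : Fin 6 → ZMod 3) : ArrayPt → ZMod 3 := fun p => ∑ j, a j * genWord j p

/-- The nine tetracode words. -/
def tetWord (a b : ZMod 3) : Fin 4 → ZMod 3 := ![b, a, a + b, a + 2 * b]

theorem tetWord_mem (a b : ZMod 3) : tetWord a b ∈ tetracode := by
  rw [tetracode, Submodule.mem_span_pair]
  exact ⟨a, b, by funext i; fin_cases i <;> simp [tetWord] <;> ring⟩

theorem exists_tetWord {t : Fin 4 → ZMod 3} (ht : t ∈ tetracode) : ∃ a b, t = tetWord a b := by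
  rw [tetracode, Submodule.mem_span_pair] at ht
  obtain ⟨a, b, rfl⟩ := ht
  exact ⟨a, b, by funext i; fin_cases i <;> simp [tetWord] <;> ring⟩

theorem genWord_check : ∀ j : Fin 6, ∃ s : ZMod 3, (∀ i : Fin 4, ∑ r : ZMod 3, genWord j (i, r) = -s) ∧
    ∀ a b, ∑ i : Fin 4, genWord j (i, tetWord a b i) = s := by decide +kernel

theorem genWord_mem (j : Fin 6) : genWord j ∈ ternaryGolayCode := by
  obtain ⟨s, h1, h2⟩ := genWord_check j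
  refine ⟨s, h1, fun t ht => ?_⟩
  obtain ⟨a, b, rfl⟩ := exists_tetWord ht
  exact h2 a b

theorem comb_mem (a : Fin 6 → ZMod 3) : comb a ∈ ternaryGolayCode := by
  have h : comb a = ∑ j, a j • genWord j := by
    funext p
    simp [comb, Finset.sum_apply]
  rw [h]
  exact Submodule.sum_mem _ fun j _ => Submodule.smul_mem _ _ (genWord_mem j)

theorem pivot_check : ∀ i j : Fin 6, genWord j (pivot i) = if i = j then 1 else 0 := by decide +kernel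

theorem comb_pivot (a : Fin 6 → ZMod 3) (i : Fin 6) : comb a (pivot i) = a i := by
  simp [comb, pivot_check]

theorem comb_injective : Function.Injective comb := fun a b h =>
  funext fun i => by rw [← comb_pivot a, ← comb_pivot b, h]

/-- A vector from its six non-pivot coordinates. -/
def tail (c d e f g k : ZMod 3) : ArrayPt → ZMod 3 := fun p =>
  [0, 0, 0, 0, 0, c, 0, d, e, f, g, k].getD (idxFun p).val 0

theorem tail_check : ∀ c d e f g k s : ZMod 3,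
    (∀ i : Fin 4, ∑ r : ZMod 3, tail c d e f g k (i, r) = -s) →
    (∀ a b, ∑ i : Fin 4, tail c d e f g k (i, tetWord a b i) = s) →
    c = 0 ∧ d = 0 ∧ e = 0 ∧ f = 0 ∧ g = 0 ∧ k = 0 := by decide +kernel

theorem eq_zero_of_pivots {y : ArrayPt → ZMod 3} (hy : y ∈ ternaryGolayCode)
    (h0 : ∀ i, y (pivot i) = 0) : y = 0 := by
  obtain ⟨s, h1, h2⟩ := hy
  have hy' : y = tail (y (1, 2)) (y (2, 1)) (y (2, 2)) (y (3, 0)) (y (3, 1)) (y (3, 2)) := by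
    have hp : ∀ p : ArrayPt, (∃ i, pivot i = p) ∨ p = (1, 2) ∨ p = (2, 1) ∨ p = (2, 2) ∨
        p = (3, 0) ∨ p = (3, 1) ∨ p = (3, 2) := by decide +kernel
    funext p
    rcases hp p with ⟨i, rfl⟩ | rfl | rfl | rfl | rfl | rfl | rfl
    · rw [h0]
      fin_cases i <;> rfl
    all_goals rfl
  obtain ⟨rfl', hd, he, hf, hg, hk⟩ := tail_check _ _ _ _ _ _ s
    (fun i => by rw [← hy']; exact h1 i) (fun a b => by rw [← hy']; exact h2 _ (tetWord_mem a b))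
  rw [hy', rfl', hd, he, hf, hg, hk]
  funext p
  have hz : ∀ q : ArrayPt, tail 0 0 0 0 0 0 q = 0 := by decide +kernel
  exact hz p

theorem mem_iff (x : ArrayPt → ZMod 3) :
    x ∈ ternaryGolayCode ↔ comb (fun i => x (pivot i)) = x := by
  constructor
  · intro hx
    exact sub_eq_zero.1 (eq_zero_of_pivots (Submodule.sub_mem _ (comb_mem _) hx)
      fun i => by simp [comb_pivot])
  · intro h
    rw [← h]
    exact comb_mem _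

/-- The code is decidable via the pivot criterion. -/
def decMem (x : ArrayPt → ZMod 3) : Decidable (x ∈ ternaryGolayCode) :=
  decidable_of_iff' _ (mem_iff x)

theorem coe_eq_range : (ternaryGolayCode : Set (ArrayPt → ZMod 3)) = Set.range comb := by
  ext x
  exact ⟨fun hx => ⟨_, (mem_iff x).1 hx⟩, fun ⟨a, ha⟩ => ha ▸ comb_mem a⟩

theorem card_code : Nat.card ↥ternaryGolayCode = 729 := by
  have h : Nat.card ↥ternaryGolayCode = Nat.card (Set.range comb) := by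
    rw [← coe_eq_range]
    rfl
  rw [h, Nat.card_range_of_injective comb_injective, Nat.card_eq_fintype_card, Fintype.card_fun,
    ZMod.card, Fintype.card_fin]
  norm_num

theorem ncard_weight (P : ℕ → Prop) [DecidablePred P] :
    {x : ArrayPt → ZMod 3 | x ∈ ternaryGolayCode ∧ P (ternarySupport x).card}.ncard
      = (Finset.univ.filter fun a => P (ternarySupport (comb a)).card).card := by
  rw [← Finset.card_image_of_injective _ comb_injective, ← Set.ncard_coe_finset]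
  congr 1
  ext x
  simp only [Set.mem_ofPred_eq, Finset.coe_image, Finset.coe_filter, Finset.mem_univ, true_and,
    Set.mem_image]
  constructor
  · rintro ⟨hx, hP⟩
    exact ⟨_, by rwa [(mem_iff x).1 hx], (mem_iff x).1 hx⟩
  · rintro ⟨a, hP, rfl⟩
    exact ⟨comb_mem a, hP⟩

end Cfsg.Agent.Lib.TernaryGolay
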