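import Cfsg.Agent.Lib.TernaryGolay.Weights

set_option autoImplicit false
set_option maxRecDepth 100000

namespace Cfsg.Agent.Lib.TernaryGolay

open Cfsg BitMask

/-- The supports of the weight 6 words. -/
def hexads : Set (Finset ArrayPt) :=
  {h | ∃ x ∈ ternaryGolayCode, ternarySupport x = h ∧ h.card = 6}

/-- A mask read off at the points. -/
def maskPts (m : ℕ) : Finset ArrayPt := Finset.univ.filter fun p => m.testBit (idxFun p).val = true

/-- The mask of the support of a word. -/
def suppMask (a : Fin 6 → ZMod 3) : ℕ :=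
  ((List.finRange 12).map fun i : Fin 12 =>
    if comb a (⟨i.val / 3, by omega⟩, (i.val % 3 : ℕ)) = 0 then 0 else 1 <<< i.val).sum

theorem hex_check : (∀ a : Fin 6 → ZMod 3, (ternarySupport (comb a)).card = 6 →
      hexMasks.contains (suppMask a) = true ∧ maskPts (suppMask a) = ternarySupport (comb a)) ∧
    (hexMasks.zip hexCoeffs).all (fun hc =>
      suppMask (fun i => hc.2.getD i.val 0) == hc.1
        && decide ((ternarySupport (comb fun i => hc.2.getD i.val 0)).card = 6)) = true ∧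
    hexMasks.length = hexCoeffs.length ∧ hexMasks.Nodup ∧ hexMasks.length = 132 ∧
    hexMasks.all (fun m => decide (m < 2 ^ 12)) = true := by
  decide +kernel

theorem hexMasks_lt {m : ℕ} (hm : m ∈ hexMasks) : m < 2 ^ 12 :=
  of_decide_eq_true (List.all_eq_true.1 hex_check.2.2.2.2.2 m hm)

theorem maskPts_eq (m : ℕ) : maskPts m = maskSet idx m := rfl

theorem hexads_eq : hexads = {h | ∃ m ∈ hexMasks, maskSet idx m = h} := by
  ext h
  constructor
  · rintro ⟨x, hx, rfl, hc⟩
    rw [← (mem_iff x).1 hx] at hc ⊢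
    obtain ⟨h1, h2⟩ := hex_check.1 _ hc
    exact ⟨_, List.contains_iff_mem.1 h1, h2⟩
  · rintro ⟨m, hm, rfl⟩
    obtain ⟨k, hk, rfl⟩ := List.mem_iff_getElem.1 hm
    have hk' : k < hexCoeffs.length := hex_check.2.2.1 ▸ hk
    have := List.all_eq_true.1 hex_check.2.1 (hexMasks[k], hexCoeffs[k])
      (List.mem_iff_getElem.2 ⟨k, by simp [hk, hk'], List.getElem_zip⟩)
    simp only [Bool.and_eq_true, beq_iff_eq, decide_eq_true_eq] at this
    have hs : maskSet idx hexMasks[k] = ternarySupport (comb fun i => hexCoeffs[k].getD i.val 0) := by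
      rw [← this.1]
      exact (hex_check.1 _ this.2).2
    exact ⟨_, comb_mem _, hs.symm, (congrArg Finset.card hs).trans this.2⟩

theorem steiner_check : ∀ m : Fin 4096, bitCount 12 m.val = 5 →
    (hexMasks.filter fun h => m.val &&& h == m.val).length = 1 := by decide +kernel

theorem hexads_steiner : IsSteinerSystem 5 6 hexads := by
  refine ⟨fun b ⟨x, _, _, hc⟩ => hc, fun s hs => ?_⟩
  obtain ⟨m, hm, rfl⟩ := exists_mask idx s
  rw [card_maskSet] at hs
  obtain ⟨h, hh⟩ := List.length_eq_one_iff.1 (steiner_check ⟨m, hm⟩ hs)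
  have key : ∀ h', h' ∈ hexMasks ∧ maskSet idx m ⊆ maskSet idx h' ↔ h' = h := fun h' => by
    rw [maskSet_subset idx hm, ← List.mem_singleton (b := h), ← hh, List.mem_filter, beq_iff_eq]
  obtain ⟨hm1, hm2⟩ := (key h).2 rfl
  refine ⟨maskSet idx h, ⟨by rw [hexads_eq]; exact ⟨h, hm1, rfl⟩, hm2⟩, ?_⟩
  rintro b ⟨hb, hsub⟩
  rw [hexads_eq] at hb
  obtain ⟨h', hh', rfl⟩ := hb
  rw [(key h').1 ⟨hh', hsub⟩]

theorem ncard_hexads : hexads.ncard = 132 := by
  have h : hexads = maskSet idx '' (hexMasks.toFinset : Set ℕ) := by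
    rw [hexads_eq]
    ext h
    simp
  rw [h, Set.ncard_image_of_injOn, Set.ncard_coe_finset, List.toFinset_card_of_nodup hex_check.2.2.2.1,
    hex_check.2.2.2.2.1]
  intro a ha b hb hab
  exact maskSet_injOn idx (hexMasks_lt (List.mem_toFinset.1 ha)) (hexMasks_lt (List.mem_toFinset.1 hb)) hab

end Cfsg.Agent.Lib.TernaryGolay
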