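import Cfsg.Agent.Lib.TernaryGolay.Basic

set_option autoImplicit false
set_option maxRecDepth 100000

namespace Cfsg.Agent.Lib.TernaryGolay

open Cfsg

theorem weight_check : (∀ a : Fin 6 → ZMod 3, (ternarySupport (comb a)).card = 0 ∨
      (ternarySupport (comb a)).card = 6 ∨ (ternarySupport (comb a)).card = 9 ∨
      (ternarySupport (comb a)).card = 12) ∧
    (Finset.univ.filter fun a => (ternarySupport (comb a)).card = 6).card = 264 ∧
    (Finset.univ.filter fun a => (ternarySupport (comb a)).card = 9).card = 440 ∧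
    (Finset.univ.filter fun a => (ternarySupport (comb a)).card = 12).card = 24 := by
  decide +kernel

theorem weight_mem {x : ArrayPt → ZMod 3} (hx : x ∈ ternaryGolayCode) (h : x ≠ 0) :
    (ternarySupport x).card = 6 ∨ (ternarySupport x).card = 9 ∨ (ternarySupport x).card = 12 := by
  have := weight_check.1 fun i => x (pivot i)
  rw [(mem_iff x).1 hx] at this
  refine this.resolve_left fun h0 => h ?_
  rw [Finset.card_eq_zero, ternarySupport, Finset.filter_eq_empty_iff] at h0
  exact funext fun p => of_not_not (h0 (Finset.mem_univ p))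

theorem min_weight {x : ArrayPt → ZMod 3} (hx : x ∈ ternaryGolayCode) (h : x ≠ 0) :
    6 ≤ (ternarySupport x).card := by
  rcases weight_mem hx h with h | h | h <;> omega

theorem ortho_check : ∀ i j : Fin 6, ∑ p, genWord i p * genWord j p = 0 := by decide +kernel

theorem self_orthogonal {x y : ArrayPt → ZMod 3} (hx : x ∈ ternaryGolayCode)
    (hy : y ∈ ternaryGolayCode) : ∑ p, x p * y p = 0 := by
  rw [← (mem_iff x).1 hx, ← (mem_iff y).1 hy]
  simp only [comb, Finset.sum_mul_sum]
  rw [Finset.sum_comm]
  refine Finset.sum_eq_zero fun i _ => ?_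
  rw [Finset.sum_comm]
  refine Finset.sum_eq_zero fun j _ => ?_
  rw [show (0 : ZMod 3) = x (pivot i) * y (pivot j) * ∑ p, genWord i p * genWord j p by
    rw [ortho_check, mul_zero], Finset.mul_sum]
  exact Finset.sum_congr rfl fun p _ => by ring

/-- The two weight 6 words used to show that sign changes preserving the code are scalar, as
coefficient vectors. -/
theorem diag_witness : ∃ a b : Fin 6 → ZMod 3, ∃ c : Fin 6 → ZMod 3,
    (ternarySupport (comb a)).card = 6 ∧ (ternarySupport (comb b)).card = 6 ∧
    (ternarySupport (comb c)).card = 6 ∧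
    ternarySupport (comb a) ∪ ternarySupport (comb b) ∪ ternarySupport (comb c) = Finset.univ ∧
    (ternarySupport (comb a) ∩ ternarySupport (comb b)).Nonempty ∧
    (ternarySupport (comb a) ∩ ternarySupport (comb c)).Nonempty :=
  ⟨![1, 1, 1, 2, 2, 0], ![0, 1, 2, 1, 2, 2], ![0, 0, 1, 1, 0, 0], by decide +kernel, by decide +kernel, by decide +kernel,
    by decide +kernel, by decide +kernel, by decide +kernel⟩

theorem sign_const {c : ArrayPt → (ZMod 3)ˣ}
    (h : ∀ x ∈ ternaryGolayCode, monomialMap 1 c x ∈ ternaryGolayCode)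
    {x : ArrayPt → ZMod 3} (hx : x ∈ ternaryGolayCode) (hw : (ternarySupport x).card = 6)
    {p q : ArrayPt} (hp : p ∈ ternarySupport x) (hq : q ∈ ternarySupport x) : c p = c q := by
  set y : ArrayPt → ZMod 3 := monomialMap 1 c x - (c p : ZMod 3) • x with hy
  have hymem : y ∈ ternaryGolayCode :=
    Submodule.sub_mem _ (h x hx) (Submodule.smul_mem _ _ hx)
  have hval : ∀ r, y r = ((c r : ZMod 3) - (c p : ZMod 3)) * x r := fun r => by
    show (c r : ZMod 3) * x ((1 : Equiv.Perm ArrayPt).symm r) - (c p : ZMod 3) • x r = _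
    rw [smul_eq_mul, sub_mul]
    rfl
  by_contra hne
  have hy0 : y ≠ 0 := fun h0 => by
    have := congrFun h0 q
    rw [hval, Pi.zero_apply, mul_eq_zero] at this
    rcases this with h | h
    · exact hne (Units.ext (sub_eq_zero.1 h)).symm
    · exact (Finset.mem_filter.1 hq).2 h
  have hsub : ternarySupport y ⊆ (ternarySupport x).erase p := by
    intro r hr
    simp only [ternarySupport, Finset.mem_filter, Finset.mem_univ, true_and, hval, ne_eq,
      mul_eq_zero, not_or] at hr ⊢
    exact Finset.mem_erase.2 ⟨fun e => hr.1 (by rw [e, sub_self]),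
      Finset.mem_filter.2 ⟨Finset.mem_univ _, hr.2⟩⟩
  have h1 := Finset.card_le_card hsub
  rw [Finset.card_erase_of_mem hp, hw] at h1
  have h2 := min_weight hymem hy0
  omega

theorem diag_scalar {c : ArrayPt → (ZMod 3)ˣ}
    (h : ∀ x ∈ ternaryGolayCode, monomialMap 1 c x ∈ ternaryGolayCode) :
    (∀ p, c p = 1) ∨ (∀ p, c p = -1) := by
  obtain ⟨a, b, d, ha, hb, hd, hcov, ⟨r, hr⟩, ⟨t, ht⟩⟩ := diag_witness
  rw [Finset.mem_inter] at hr ht
  have hall : ∀ p, c p = c r := by
    intro p
    have hp : p ∈ ternarySupport (comb a) ∪ ternarySupport (comb b) ∪ ternarySupport (comb d) := by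
      rw [hcov]; exact Finset.mem_univ p
    simp only [Finset.mem_union] at hp
    rcases hp with (hp | hp) | hp
    · exact sign_const h (comb_mem a) ha hp hr.1
    · exact sign_const h (comb_mem b) hb hp hr.2
    · exact (sign_const h (comb_mem d) hd hp ht.2).trans (sign_const h (comb_mem a) ha ht.1 hr.1)
  have hu : ∀ u : (ZMod 3)ˣ, u = 1 ∨ u = -1 := by decide +kernel
  rcases hu (c r) with hu | hu
  · exact Or.inl fun p => (hall p).trans hu
  · exact Or.inr fun p => (hall p).trans hu

end Cfsg.Agent.Lib.TernaryGolay
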